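import Mathlib
import Groth.Prelude.Def_DeRham

/-! Generation of forms by `b₀ db₁ ∧ … ∧ db_p`, and the elementary consequences. -/

universe u v w

namespace DRFam

open exteriorPower

variable {A M : Type u} [CommRing A] [AddCommGroup M] [Module A M]

/-- Two additive maps agreeing on `a • (δ b₁ ∧ … ∧ δ b_p)` agree. -/
lemma hom_ext {G : Type w} [AddCommGroup G] {B : Type v} (δ : B → M)
    (hδ : Submodule.span A (Set.range δ) = ⊤) {p : ℕ} (f g : ↥(⋀[A]^p M) →+ G)
    (h : ∀ (a : A) (b : Fin p → B),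
      f (a • ιMulti A p (fun i => δ (b i))) = g (a • ιMulti A p (fun i => δ (b i)))) : f = g := by
  ext x
  have hx : x ∈ Submodule.span A (ιMulti A p '' {a | Set.range a ⊆ Set.range δ}) := by
    rw [ιMulti_span_of_span A p M hδ]; exact Submodule.mem_top
  suffices ∀ a : A, f (a • x) = g (a • x) by simpa using this 1
  induction hx using Submodule.span_induction with
  | mem y hy =>
    obtain ⟨v, hv, rfl⟩ := hy
    intro a
    choose b hb using fun i => hv ⟨i, rfl⟩
    obtain rfl : v = fun i => δ (b i) := funext fun i => (hb i).symm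
    exact h a b
  | zero => intro a; simp
  | add y z _ _ hy hz => intro a; rw [smul_add, map_add, map_add, hy a, hz a]
  | smul c y _ hy => intro a; rw [smul_smul]; exact hy _

variable {R : Type v} [CommRing R] [Algebra R A]

lemma span_D (R A : Type u) [CommRing R] [CommRing A] [Algebra R A] :
    Submodule.span A (Set.range (KaehlerDifferential.D R A)) = ⊤ :=
  KaehlerDifferential.span_range_derivation R A

variable [Module R M] [IsScalarTower R A M] {δ : Derivation R A M}
  {d : ∀ p : ℕ, ↥(⋀[A]^p M) →ₗ[R] ↥(⋀[A]^(p + 1) M)}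

lemma ιMulti_eq_gen {p : ℕ} (b₀ : A) (b : Fin p → A) :
    ιMulti A (p + 1) (Fin.cons (δ b₀) fun i => δ (b i)) =
      DeRham.gen δ (p + 1) 1 (Fin.cons b₀ b) := by
  rw [DeRham.gen, one_smul]
  congr 1
  funext i
  refine Fin.cases ?_ (fun j => ?_) i <;> simp

lemma isDiff (hd : DeRham.IsRule δ d) (hδ : Submodule.span A (Set.range δ) = ⊤) :
    DeRham.IsDiff δ d := by
  refine ⟨hd, fun p => ?_⟩
  have h := hom_ext δ hδ (p := p) ((d (p + 1)).toAddMonoidHom.comp (d p).toAddMonoidHom) 0 fun a b => by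
    show d (p + 1) (d p (DeRham.gen δ p a b)) = 0
    rw [hd p a b, ιMulti_eq_gen, hd (p + 1) 1, Derivation.map_one_eq_zero]
    exact AlternatingMap.map_coord_zero _ 0 (Fin.cons_zero _ _)
  exact LinearMap.ext fun x => DFunLike.congr_fun h x

/-- Wedge on the left with a fixed vector. -/
noncomputable def wedge (v : M) (p : ℕ) : ↥(⋀[A]^p M) →ₗ[A] ↥(⋀[A]^(p + 1) M) :=
  alternatingMapLinearEquiv ((ιMulti A (p + 1)).curryLeft v)

lemma wedge_ιMulti (v : M) (p : ℕ) (w : Fin p → M) :
    wedge v p (ιMulti A p w) = ιMulti A (p + 1) (Fin.cons v w) := by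
  rw [wedge, alternatingMapLinearEquiv_apply_ιMulti, AlternatingMap.curryLeft_apply_apply]
  rfl

lemma d_smul (hd : DeRham.IsRule δ d) (hδ : Submodule.span A (Set.range δ) = ⊤) (p : ℕ) (a : A)
    (x : ↥(⋀[A]^p M)) : d p (a • x) - a • d p x = wedge (δ a) p x := by
  have h := hom_ext δ hδ (p := p)
    ((d p).toAddMonoidHom.comp (DistribSMul.toAddMonoidHom _ a) -
      (DistribSMul.toAddMonoidHom _ a).comp (d p).toAddMonoidHom)
    (wedge (A := A) (δ a) p).toAddMonoidHom fun c b => by
    show d p (a • DeRham.gen δ p c b) - a • d p (DeRham.gen δ p c b) = wedge (δ a) p (c • _)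
    have e1 : a • DeRham.gen δ p c b = DeRham.gen δ p (a * c) b := smul_smul _ _ _
    rw [e1, hd p (a * c) b, hd p c b, map_smul, wedge_ιMulti, Derivation.leibniz]
    set w : Fin p → M := fun i => δ (b i)
    let L : M →ₗ[A] ↥(⋀[A]^(p + 1) M) :=
      { toFun := fun v => ιMulti A (p + 1) (Fin.cons v w)
        map_add' := fun u v => (ιMulti A (p + 1)).toMultilinearMap.cons_add w u v
        map_smul' := fun r v => (ιMulti A (p + 1)).toMultilinearMap.cons_smul w r v }
    show L (a • δ c + c • δ a) - a • L (δ c) = c • L (δ a)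
    rw [map_add, map_smul, map_smul]
    abel
  exact DFunLike.congr_fun h x

end DRFam
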