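import Mathlib
import Groth.Agent.Lib.DeRhamFam.Basic

/-! Contraction homotopies for de Rham differentials. -/

set_option autoImplicit false

universe u

namespace DRFam.Homotopy


variable {k A M : Type u} [CommRing k] [CommRing A] [Algebra k A] [AddCommGroup M] [Module A M]
  [Module k M] [IsScalarTower k A M] (δ : Derivation k A M)
  (d : ∀ p : ℕ, ↥(⋀[A]^p M) →ₗ[k] ↥(⋀[A]^(p + 1) M))

/-- The product `δ b₁ ∧ … ∧ δ b_p`. -/
noncomputable def G {p : ℕ} (b : Fin p → A) : ↥(⋀[A]^p M) :=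
  exteriorPower.ιMulti A p fun i => δ (b i)

theorem coe_G_zero (b : Fin 0 → A) : ((G δ b : ↥(⋀[A]^0 M)) : ExteriorAlgebra A M) = 1 := by
  rw [G, exteriorPower.ιMulti_apply_coe, ExteriorAlgebra.ιMulti_zero_apply]

theorem coe_G_cons {p : ℕ} (x : A) (b : Fin p → A) :
    ((G δ (Fin.cons x b) : ↥(⋀[A]^(p + 1) M)) : ExteriorAlgebra A M) =
      ExteriorAlgebra.ι A (δ x) * (G δ b : ExteriorAlgebra A M) := by
  rw [G, G, exteriorPower.ιMulti_apply_coe, exteriorPower.ιMulti_apply_coe,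
    ExteriorAlgebra.ιMulti_succ_apply]
  congr 2

theorem mul_mem {p : ℕ} (v : M) (y : ↥(⋀[A]^p M)) :
    ExteriorAlgebra.ι A v * (y : ExteriorAlgebra A M) ∈ ⋀[A]^(p + 1) M := by
  show _ ∈ LinearMap.range (ExteriorAlgebra.ι A) ^ (p + 1)
  rw [pow_succ']
  exact Submodule.mul_mem_mul ⟨v, rfl⟩ y.2

/-- Left multiplication by a vector. -/
noncomputable def wl (v : M) (p : ℕ) : ↥(⋀[A]^p M) →ₗ[A] ↥(⋀[A]^(p + 1) M) where
  toFun y := ⟨_, mul_mem v y⟩
  map_add' a b := by ext; exact mul_add _ _ _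
  map_smul' c a := by ext; exact mul_smul_comm _ _ _

theorem wl_G {p : ℕ} (x : A) (b : Fin p → A) : wl (δ x) p (G δ b) = G δ (Fin.cons x b) :=
  Subtype.ext (coe_G_cons δ x b).symm

theorem ι_anticomm (v w : M) (z : ExteriorAlgebra A M) :
    ExteriorAlgebra.ι A v * (ExteriorAlgebra.ι A w * z) =
      -(ExteriorAlgebra.ι A w * (ExteriorAlgebra.ι A v * z)) := by
  rw [← mul_assoc, ← mul_assoc, eq_neg_iff_add_eq_zero, ← add_mul,
    ExteriorAlgebra.ι_add_mul_swap, zero_mul]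

variable {δ d}

theorem d_G (hd : DeRham.IsRule δ d) {p : ℕ} (a : A) (b : Fin p → A) :
    d p (a • G δ b) = wl (δ a) p (G δ b) := by
  rw [wl_G]
  refine (hd p a b).trans ?_
  rw [G]
  congr 1
  funext i
  refine Fin.cases ?_ (fun j => ?_) i <;> simp

theorem d_wl (hd : DeRham.IsRule δ d) (hgen : Submodule.span A (Set.range δ) = ⊤) (x : A) {p : ℕ}
    (y : ↥(⋀[A]^p M)) : d (p + 1) (wl (δ x) p y) = -wl (δ x) (p + 1) (d p y) := by
  refine DFunLike.congr_fun (DRFam.hom_ext δ hgen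
    ((d (p + 1)).toAddMonoidHom.comp (wl (δ x) p).toAddMonoidHom)
    (-((wl (δ x) (p + 1)).toAddMonoidHom.comp (d p).toAddMonoidHom)) fun a b => ?_) y
  change d (p + 1) (wl (δ x) p (a • G δ b)) = -wl (δ x) (p + 1) (d p (a • G δ b))
  rw [map_smul, wl_G, d_G hd, d_G hd]
  refine Subtype.ext ?_
  show ExteriorAlgebra.ι A (δ a) * (G δ (Fin.cons x b) : ExteriorAlgebra A M) =
    -(ExteriorAlgebra.ι A (δ x) * (ExteriorAlgebra.ι A (δ a) * (G δ b : ExteriorAlgebra A M)))
  rw [coe_G_cons, ← ι_anticomm]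

variable (φ : M →ₗ[A] A)

theorem contract_mem {p : ℕ} {x : ExteriorAlgebra A M} (hx : x ∈ ⋀[A]^p M) :
    (p = 0 → CliffordAlgebra.contractLeft φ x = 0) ∧
      ∀ q, p = q + 1 → CliffordAlgebra.contractLeft φ x ∈ ⋀[A]^q M := by
  induction hx using Submodule.pow_induction_on_left' with
  | algebraMap r =>
    exact ⟨fun _ => CliffordAlgebra.contractLeft_algebraMap _ _ r, fun q h => by omega⟩
  | add x y i hx hy ihx ihy =>
    refine ⟨fun h => by rw [map_add, ihx.1 h, ihy.1 h, add_zero], fun q h => ?_⟩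
    rw [map_add]; exact add_mem (ihx.2 q h) (ihy.2 q h)
  | mem_mul m hm i x hx ih =>
    obtain ⟨v, rfl⟩ := hm
    refine ⟨fun h => by omega, fun q h => ?_⟩
    obtain rfl : i = q := by omega
    rw [show CliffordAlgebra.contractLeft φ (ExteriorAlgebra.ι A v * x) =
      φ v • x - ExteriorAlgebra.ι A v * CliffordAlgebra.contractLeft φ x from
      CliffordAlgebra.contractLeft_ι_mul _ _ _]
    refine sub_mem (Submodule.smul_mem _ _ hx) ?_
    cases i with
    | zero => rw [ih.1 rfl, mul_zero]; exact zero_mem _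
    | succ j => exact mul_mem v ⟨_, ih.2 j rfl⟩

/-- Contraction. -/
noncomputable def kap (p : ℕ) : ↥(⋀[A]^(p + 1) M) →ₗ[A] ↥(⋀[A]^p M) :=
  LinearMap.codRestrict _ ((CliffordAlgebra.contractLeft φ).comp (Submodule.subtype _))
    fun y => (contract_mem φ y.2).2 p rfl

theorem kap_wl_succ {p : ℕ} (v : M) (y : ↥(⋀[A]^(p + 1) M)) :
    kap φ (p + 1) (wl v (p + 1) y) = φ v • y - wl v p (kap φ p y) :=
  Subtype.ext (CliffordAlgebra.contractLeft_ι_mul (d := φ) (a := v) (b := (y : ExteriorAlgebra A M)))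

theorem kap_wl_zero (v : M) (y : ↥(⋀[A]^0 M)) : kap φ 0 (wl v 0 y) = φ v • y := by
  refine Subtype.ext ?_
  change CliffordAlgebra.contractLeft φ (ExteriorAlgebra.ι A v * (y : ExteriorAlgebra A M)) = _
  rw [show CliffordAlgebra.contractLeft φ (ExteriorAlgebra.ι A v * (y : ExteriorAlgebra A M)) =
      φ v • (y : ExteriorAlgebra A M) - ExteriorAlgebra.ι A v *
        CliffordAlgebra.contractLeft φ (y : ExteriorAlgebra A M) from
      CliffordAlgebra.contractLeft_ι_mul _ _ _, (contract_mem φ y.2).1 rfl, mul_zero, sub_zero]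
  rfl

variable {φ}

theorem d_kap (hd : DeRham.IsRule δ d) (hgen : Submodule.span A (Set.range δ) = ⊤) :
    ∀ (q : ℕ) (b : Fin (q + 1) → A) (ε : Fin (q + 1) → ℕ), (∀ i, φ (δ (b i)) = (ε i : A) * b i) →
      ∀ a : A, d q (a • kap φ q (G δ b)) =
        ((∑ i, ε i : ℕ) : A) • a • G δ b + wl (δ a) q (kap φ q (G δ b)) := by
  intro q
  induction q with
  | zero =>
    intro b ε hb a
    induction b using Fin.consCases with
    | cons x b =>
      have hx : φ (δ x) = (ε 0 : A) * x := by simpa using hb 0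
      rw [← wl_G, kap_wl_zero, hx, smul_smul, d_G hd, Derivation.leibniz, Derivation.leibniz,
        Derivation.map_natCast, smul_zero, add_zero]
      refine Subtype.ext ?_
      simp only [wl, LinearMap.coe_mk, AddHom.coe_mk, Submodule.coe_add, Submodule.coe_smul,
        map_add, map_smul, add_mul, smul_mul_assoc, mul_smul_comm, Fin.sum_univ_one, smul_smul]
      rw [show (∑ i, ε i) = ε 0 from Fin.sum_univ_one ε, mul_comm a (ε 0 : A)]
  | succ q ih =>
    intro b ε hb a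
    induction b using Fin.consCases with
    | cons x b =>
      have hx : φ (δ x) = (ε 0 : A) * x := by simpa using hb 0
      have hb' : ∀ i, φ (δ (b i)) = ((ε ∘ Fin.succ) i : A) * b i := fun i => by simpa using hb i.succ
      have h := ih b (ε ∘ Fin.succ) hb' a
      rw [← wl_G, kap_wl_succ, hx, smul_sub, map_sub, smul_smul, d_G hd, ← map_smul,
        d_wl hd hgen, h, Derivation.leibniz, Derivation.leibniz, Derivation.map_natCast, smul_zero,
        add_zero]
      have hadd := ι_anticomm (δ x) (δ a) ((kap φ q (G δ b) : ↥(⋀[A]^q M)) : ExteriorAlgebra A M)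
      refine Subtype.ext ?_
      simp only [wl, LinearMap.coe_mk, AddHom.coe_mk, Submodule.coe_add, Submodule.coe_smul,
        NegMemClass.coe_neg, AddSubgroupClass.coe_sub, map_add, map_smul, add_mul, mul_add, mul_sub,
        smul_mul_assoc, mul_smul_comm, Fin.sum_univ_succ, Nat.cast_add, add_smul, smul_smul, hadd,
        Function.comp_apply]
      rw [mul_comm a (ε 0 : A)]
      module

/-- The homotopy operator. -/
noncomputable def L (φ : M →ₗ[A] A) (d : ∀ p : ℕ, ↥(⋀[A]^p M) →ₗ[k] ↥(⋀[A]^(p + 1) M)) :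
    ∀ p : ℕ, ↥(⋀[A]^p M) →ₗ[k] ↥(⋀[A]^p M)
  | 0 => ((kap φ 0).restrictScalars k).comp (d 0)
  | q + 1 => (d q).comp ((kap φ q).restrictScalars k) +
      ((kap φ (q + 1)).restrictScalars k).comp (d (q + 1))

theorem L_G (hd : DeRham.IsRule δ d) (hgen : Submodule.span A (Set.range δ) = ⊤) (p : ℕ)
    (b : Fin p → A) (ε : Fin p → ℕ) (hb : ∀ i, φ (δ (b i)) = (ε i : A) * b i) (a : A) :
    L φ d p (a • G δ b) = (φ (δ a) + ((∑ i, ε i : ℕ) : A) * a) • G δ b := by
  cases p with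
  | zero =>
    show kap φ 0 (d 0 (a • G δ b)) = _
    rw [d_G hd, kap_wl_zero]
    simp
  | succ q =>
    show d q (kap φ q (a • G δ b)) + kap φ (q + 1) (d (q + 1) (a • G δ b)) = _
    rw [map_smul, d_kap hd hgen q b ε hb, d_G hd, kap_wl_succ, smul_smul, add_smul]
    abel

theorem d_L (hdd : ∀ p x, d (p + 1) (d p x) = 0) (p : ℕ) (x : ↥(⋀[A]^p M)) :
    d p (L φ d p x) = L φ d (p + 1) (d p x) := by
  cases p with
  | zero =>
    show d 0 (kap φ 0 (d 0 x)) = d 0 (kap φ 0 (d 0 x)) + kap φ 1 (d 1 (d 0 x))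
    rw [hdd, map_zero, add_zero]
  | succ q =>
    show d (q + 1) (d q (kap φ q x) + kap φ (q + 1) (d (q + 1) x)) =
      d (q + 1) (kap φ (q + 1) (d (q + 1) x)) + kap φ (q + 1 + 1) (d (q + 1 + 1) (d (q + 1) x))
    rw [map_add, hdd, hdd, map_zero, zero_add, add_zero]

end DRFam.Homotopy
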